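import Groth.Agent.LC.GorRows
import Mathlib.RingTheory.KrullDimension.Regular
import Mathlib.RingTheory.KrullDimension.Zero

/-!
# The socle of a Gorenstein ring modulo a regular element is simple
-/

universe u

open CategoryTheory IsLocalRing
open scoped Pointwise

namespace GorSocle

open Groth.Agent.LC

variable {R : Type u} [CommRing R] [LocCoh.IsGorensteinLocalRing R] {x : R}

theorem mem_maximalIdeal_of_sq_le (hsq : maximalIdeal R ^ 2 ≤ Ideal.span {x}) (hx : x ∈ maximalIdeal R)
    (hreg : IsSMulRegular R x) : ringKrullDim R = 1 := by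
  rw [← ringKrullDim_quotient_span_singleton_succ_eq_ringKrullDim hreg hx]
  have : Nontrivial (R ⧸ Ideal.span {x}) :=
    Ideal.Quotient.nontrivial_iff.mpr (by
      rw [Ne, Ideal.span_singleton_eq_top]
      exact hx)
  have h0 : Ring.KrullDimLE 0 (R ⧸ Ideal.span {x}) := by
    rw [Ring.krullDimLE_zero_iff]
    intro P hP
    have hc : (P.comap (Ideal.Quotient.mk (Ideal.span {x}))).IsPrime := Ideal.IsPrime.comap _
    have hle : Ideal.span {x} ≤ P.comap (Ideal.Quotient.mk (Ideal.span {x})) := fun r hr => by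
      rw [Ideal.mem_comap, Ideal.Quotient.eq_zero_iff_mem.mpr hr]; exact P.zero_mem
    have heq : P.comap (Ideal.Quotient.mk (Ideal.span {x})) = maximalIdeal R :=
      le_antisymm (le_maximalIdeal hc.ne_top) fun r hr =>
        hc.mem_of_pow_mem 2 (hle (hsq (Ideal.pow_mem_pow hr 2)))
    have : (P.comap (Ideal.Quotient.mk (Ideal.span {x}))).IsMaximal := heq ▸ inferInstance
    rw [← Ideal.map_comap_of_surjective _ Ideal.Quotient.mk_surjective P]
    refine (Ideal.map_eq_top_or_isMaximal_of_surjective _ Ideal.Quotient.mk_surjective this).resolve_left ?_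
    rw [Ideal.map_comap_of_surjective _ Ideal.Quotient.mk_surjective P]
    exact hP.ne_top
  rw [ringKrullDimZero_iff_ringKrullDim_eq_zero.mp h0, zero_add]

/-- In a one-dimensional Gorenstein local ring two socle elements modulo a regular element are dependent. -/
theorem socle_dependent (hd : ringKrullDim R = 1) (hx : x ∈ maximalIdeal R)
    (hreg : IsSMulRegular R x) (a b : R) (ha : ∀ r ∈ maximalIdeal R, r * a ∈ Ideal.span {x})
    (hb : ∀ r ∈ maximalIdeal R, r * b ∈ Ideal.span {x}) (ha0 : a ∉ Ideal.span {x}) :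
    ∃ r, b - r * a ∈ Ideal.span {x} := by
  let k := R ⧸ maximalIdeal R
  obtain ⟨d, hd', hδ, -⟩ := gorenstein_basic (R := R)
  obtain rfl : d = 1 := by rw [hd] at hd'; exact_mod_cast hd'.symm
  have hk : LocCoh.IsPowerTorsion (maximalIdeal R) k := fun z =>
    ⟨1, fun c hc => by
      obtain ⟨z, rfl⟩ := Submodule.Quotient.mk_surjective _ z
      rw [← Submodule.Quotient.mk_smul, Submodule.Quotient.mk_eq_zero]
      exact Ideal.mul_mem_right z _ (by simpa using hc)⟩
  obtain ⟨ek⟩ := nonempty_ext_linearEquiv_hom (prevVanish_gorenstein (R := R) hδ) k hk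
  obtain ⟨g, hg⟩ := isInjectiveHull_H_gorenstein (R := R) (d := 1) hd
  -- linear maps from the residue field into the hull land in the socle
  have hsoc : ∀ φ : k →ₗ[R] (localCohomology (maximalIdeal R) 1).obj (ModuleCat.of R R),
      ∃ c : R, φ (Submodule.Quotient.mk 1) = c • g (residue R 1) := by
    intro φ
    set y := φ (Submodule.Quotient.mk 1) with hy
    by_cases hy0 : y = 0
    · exact ⟨0, by rw [hy0, zero_smul]⟩
    obtain ⟨z, hz, hz0⟩ := Submodule.exists_mem_ne_zero_of_ne_bot
      (hg.essential (Submodule.span R {y}) (by simpa using hy0))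
    obtain ⟨hz1, w, rfl⟩ := hz
    obtain ⟨c, hc⟩ := Submodule.mem_span_singleton.mp hz1
    have hcu : IsUnit c := by
      by_contra hcu
      refine hz0 ?_
      rw [← hc, hy, ← map_smul, ← Submodule.Quotient.mk_smul,
        (Submodule.Quotient.mk_eq_zero _).mpr (Ideal.mul_mem_right 1 _ hcu), map_zero]
    obtain ⟨t, ht⟩ := residue_surjective w
    refine ⟨hcu.unit⁻¹ * t, ?_⟩
    have : w = t • residue R 1 := by
      rw [← ht, map_one, Algebra.smul_def, mul_one]; rfl
    rw [this, map_smul] at hc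
    rw [mul_smul, ← hc, smul_smul, hcu.val_inv_mul, one_smul]
  -- the connecting map from the socle
  have hS := IsSMulRegular.smulShortComplex_shortExact (M := ModuleCat.of R R) hreg
  have hmemx : ∀ v : R, v ∈ (x • (⊤ : Submodule R R)) ↔ v ∈ Ideal.span {x} := fun v => by
    rw [Submodule.mem_smul_pointwise_iff_exists, Ideal.mem_span_singleton']
    exact ⟨fun ⟨w, _, hw⟩ => ⟨w, by rw [← hw, smul_eq_mul, mul_comm]⟩,
      fun ⟨w, hw⟩ => ⟨w, trivial, by rw [← hw, smul_eq_mul, mul_comm]⟩⟩
  let s : ∀ v : R, (∀ r ∈ maximalIdeal R, r * v ∈ Ideal.span {x}) → (k →ₗ[R] QuotSMulTop x R) :=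
    fun v hv => Submodule.liftQ _ (LinearMap.toSpanSingleton R _ (Submodule.Quotient.mk v)) fun r hr => by
      rw [LinearMap.mem_ker, LinearMap.toSpanSingleton_apply, ← Submodule.Quotient.mk_smul,
        Submodule.Quotient.mk_eq_zero, hmemx]
      exact hv r hr
  have hs : ∀ v hv, s v hv (Submodule.Quotient.mk 1) = Submodule.Quotient.mk v := fun v hv => by
    show (1 : R) • (Submodule.Quotient.mk v : QuotSMulTop x R) = _
    rw [one_smul]
  let δ : (k →ₗ[R] QuotSMulTop x R) → Abelian.Ext (ModuleCat.of R k) (ModuleCat.of R R) 1 :=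
    fun f => (Abelian.Ext.mk₀ (ModuleCat.ofHom f : ModuleCat.of R k ⟶
      (ModuleCat.smulShortComplex (ModuleCat.of R R) x).X₃)).comp hS.extClass (zero_add 1)
  have hδinj : ∀ f, δ f = 0 → f = 0 := by
    intro f hf
    obtain ⟨e, he⟩ := Abelian.Ext.covariant_sequence_exact₃ _ hS _ (zero_add 1) hf
    obtain ⟨t, rfl⟩ := (Abelian.Ext.mk₀_bijective _ _).2 e
    have : t = 0 := by
      refine ModuleCat.hom_ext (Submodule.linearMap_qext _ (LinearMap.ext_ring ?_))
      refine hreg ?_
      show x • t.hom (Submodule.Quotient.mk 1) = x • (0 : R)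
      rw [← map_smul, ← Submodule.Quotient.mk_smul,
        (Submodule.Quotient.mk_eq_zero _).mpr
          (show x • (1 : R) ∈ maximalIdeal R by rwa [smul_eq_mul, mul_one]), map_zero]
      exact (smul_zero x).symm
    rw [this, Abelian.Ext.mk₀_zero, Abelian.Ext.zero_comp] at he
    have h2 := (Abelian.Ext.mk₀_bijective _ _).1 ((Abelian.Ext.mk₀_zero _ _).trans he)
    exact (congrArg ModuleCat.Hom.hom h2).symm
  have hδlin : ∀ f f' (r : R), δ (f' - r • f) = δ f' - r • δ f := by
    intro f f' r
    have hadd : ∀ p q : k →ₗ[R] QuotSMulTop x R, δ (p + q) = δ p + δ q := fun p q =>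
      (congrArg (fun t => Abelian.Ext.comp t hS.extClass (zero_add 1))
        (Abelian.Ext.mk₀_add (ModuleCat.ofHom p : ModuleCat.of R k ⟶
          (ModuleCat.smulShortComplex (ModuleCat.of R R) x).X₃) (ModuleCat.ofHom q))).trans
        (Abelian.Ext.add_comp _ _ _ _)
    have hsmul : ∀ (p : k →ₗ[R] QuotSMulTop x R), δ (r • p) = r • δ p := fun p =>
      (congrArg (fun t => Abelian.Ext.comp t hS.extClass (zero_add 1))
        (Abelian.Ext.mk₀_smul r (ModuleCat.ofHom p : ModuleCat.of R k ⟶
          (ModuleCat.smulShortComplex (ModuleCat.of R R) x).X₃))).trans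
        (Abelian.Ext.smul_comp _ _ _ _)
    rw [eq_sub_iff_add_eq, ← hsmul, ← hadd, sub_add_cancel]
  obtain ⟨ca, hca⟩ := hsoc (ek (δ (s a ha)))
  obtain ⟨cb, hcb⟩ := hsoc (ek (δ (s b hb)))
  have hcau : IsUnit ca := by
    by_contra hcu
    refine ha0 ((hmemx a).mp ?_)
    have h0 : ek (δ (s a ha)) = 0 := by
      refine Submodule.linearMap_qext _ (LinearMap.ext_ring ?_)
      show ek (δ (s a ha)) (Submodule.Quotient.mk 1) = 0
      rw [hca, ← map_smul, Algebra.smul_def, map_one, mul_one]
      exact (congrArg g ((residue_eq_zero_iff ca).mpr hcu)).trans (map_zero g)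
    have h1 := congrArg (fun f => f (Submodule.Quotient.mk 1)) (hδinj _ (ek.injective (h0.trans (map_zero ek).symm)))
    simp only [hs, LinearMap.zero_apply] at h1
    exact (Submodule.Quotient.mk_eq_zero _).mp h1
  refine ⟨cb * hcau.unit⁻¹, (hmemx _).mp ?_⟩
  have h0 : ek (δ (s b hb - (cb * hcau.unit⁻¹ : R) • s a ha)) = 0 := by
    rw [hδlin, map_sub, map_smul]
    refine Submodule.linearMap_qext _ (LinearMap.ext_ring ?_)
    show ek (δ (s b hb)) (Submodule.Quotient.mk 1) - (cb * hcau.unit⁻¹ : R) • ek (δ (s a ha)) (Submodule.Quotient.mk 1) = 0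
    rw [hca, hcb, smul_smul, mul_assoc, hcau.val_inv_mul, mul_one, sub_self]
  have h1 := congrArg (fun f => f (Submodule.Quotient.mk 1)) (hδinj _ (ek.injective (h0.trans (map_zero ek).symm)))
  simp only [LinearMap.sub_apply, LinearMap.smul_apply, hs, LinearMap.zero_apply] at h1
  rw [← Submodule.Quotient.mk_smul, ← Submodule.Quotient.mk_sub] at h1
  exact (Submodule.Quotient.mk_eq_zero _).mp h1

end GorSocle
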